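import Groth.Agent.H29RR.MonoHom
import Groth.Agent.H29RR.SubBundle
import Groth.Agent.H29RR.SmoothRegular
import Groth.Agent.H29RR.EvalPoint
import Groth.Agent.H29RR.GenPoint
import Groth.Agent.H17.FLI.TopForms
import Groth.Agent.H26Gr.FreeGrass
import Groth.Agent.H29RR.RankTwo
import Groth.Agent.H11Tilde.Local

/-!
# Bundles inside a free module without sections: filtrations by negative line bundles
-/

set_option autoImplicit false
set_option linter.style.haveILetI false
set_option linter.unusedSectionVars false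

universe u

open CategoryTheory CategoryTheory.Limits AlgebraicGeometry TopologicalSpace Opposite
open Groth.Agent.H11Tilde Groth.Agent.H29RR

namespace Groth.Agent.H06NegFilt

attribute [local instance] Curv2.resAlgebra
attribute [local instance 10000] H10Coh.hasSheafifyAb H10Coh.hasWeakSheafifyAb H10Coh.hasExtAb H10Coh.enoughInjAb

variable {k : Type u} [Field k] {X : Scheme.{u}} [X.Over (Spec (CommRingCat.of k))]

/-- A constant, as an endomorphism of the structure module. -/
noncomputable def constHom (c : k) : Coh.structureModule X ⟶ Coh.structureModule X :=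
  homOfGlobal (Coh.structureModule X) (H10Coh.globA (A := k) (X := X) c : Γ(X, ⊤))

theorem constHom_app (c : k) (V : X.Opens) (r : Γ(X, V)) :
    ((constHom (X := X) c).app V r : Γ(X, V)) =
      r * X.presheaf.map (homOfLE (le_top : V ≤ ⊤)).op (H10Coh.globA (A := k) (X := X) c) := rfl

theorem constHom_comp (c d : k) : constHom (X := X) c ≫ constHom d = constHom (c * d) := by
  refine Scheme.Modules.hom_ext _ _ fun V => ?_
  refine ConcreteCategory.hom_ext _ _ fun r => ?_
  show ((constHom (X := X) d).app V ((constHom (X := X) c).app V r) : Γ(X, V)) = _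
  rw [constHom_app, constHom_app]
  refine Eq.trans ?_ (constHom_app (c * d) V r).symm
  rw [map_mul, map_mul, mul_assoc]

theorem constHom_one : constHom (X := X) (1 : k) = 𝟙 _ := by
  refine Scheme.Modules.hom_ext _ _ fun V => ?_
  refine ConcreteCategory.hom_ext _ _ fun r => ?_
  refine (constHom_app (1 : k) V r).trans ?_
  rw [map_one, map_one, mul_one]
  rfl

theorem isIso_constHom {c : k} (hc : c ≠ 0) : IsIso (constHom (X := X) c) :=
  ⟨constHom c⁻¹, by rw [constHom_comp, mul_inv_cancel₀ hc, constHom_one],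
    by rw [constHom_comp, inv_mul_cancel₀ hc, constHom_one]⟩

theorem stalkLin_sum {M N : X.Modules} {s : ℕ} (φ : Fin s → (M ⟶ N)) (x : X) (v : M.presheaf.stalk x) :
    H06Mod.stalkLin (∑ i, φ i) x v = ∑ i, H06Mod.stalkLin (φ i) x v := by
  exact map_sum (AddMonoidHom.mk' (fun ψ : M ⟶ N => H06Mod.stalkLin ψ x v) fun a b => stalkLin_add a b x v) φ _

/-- The projections of a free module. -/
noncomputable def proj {s : ℕ} (i : Fin s) : FlatMod.freeMod X s ⟶ Coh.structureModule X :=
  Sigma.desc fun j => if j = i then 𝟙 _ else 0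

theorem total (s : ℕ) : ∑ i, proj (X := X) i ≫ Sigma.ι (fun _ : Fin s => Coh.structureModule X) i = 𝟙 _ := by
  refine Sigma.hom_ext _ _ fun j => ?_
  simp [Preadditive.comp_sum, proj, ite_comp]

theorem ι_proj {s : ℕ} (i j : Fin s) :
    Sigma.ι (fun _ : Fin s => Coh.structureModule X) j ≫ proj i = if j = i then 𝟙 _ else 0 :=
  Sigma.ι_desc _ _

variable [IsProper (X ↘ Spec (CommRingCat.of k))] [IsAlgClosed k]

/-- If every nonzero linear combination of the coordinates of `Φ` is surjective and none vanishes identically, `Φ` is epi. -/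
theorem epi_of_combinations {N : X.Modules} (hN : Coh.IsCoh N) {s : ℕ} (Φ : N ⟶ FlatMod.freeMod X s)
    (hmin : ∀ c : Fin s → k, c ≠ 0 → (∑ i, Φ ≫ proj i ≫ constHom (c i)) ≠ 0)
    (hepi : ∀ c : Fin s → k, (∑ i, Φ ≫ proj i ≫ constHom (c i)) ≠ 0 →
      Epi (∑ i, Φ ≫ proj i ≫ constHom (c i))) : Epi Φ := by
  classical
  haveI := isNoetherian_of_proper (k := k) (X := X)
  have hF : Coh.IsCoh (FlatMod.freeMod X s) :=
    isCoh_of_rank (H26Gr.isFinLocFreeOfRank_freeMod X s)
  haveI : N.IsQuasicoherent := hN.1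
  have hC : Coh.IsCoh (cokernel Φ) := H10Coh.isCoh_cokernel Φ hN.1 hF
  refine Preadditive.epi_of_cokernel_zero (IsZero.eq_of_tgt (H25Par.isZero_of_stalks _ fun y => ?_) _ _)
  by_contra hy
  haveI : CompactSpace X := QuasiCompact.compactSpace_of_compactSpace (X ↘ Spec (CommRingCat.of k))
  obtain ⟨x, hxS, hx⟩ := (H10Coh.isClosed_support (cokernel Φ) hC.2).exists_closed_singleton
    ⟨y, hy⟩
  refine hxS (H10Coh.subsingleton_stalk_cokernel Φ x ?_)
  -- coordinates
  let R := X.presheaf.stalk x
  let O := Coh.structureModule X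
  let one : O.presheaf.stalk x := O.presheaf.germ ⊤ x trivial (H11Ample.one ⊤)
  let τ : R ≃ₗ[R] O.presheaf.stalk x :=
    LinearEquiv.ofBijective (LinearMap.toSpanSingleton R _ one) ((H11Ample.isGen_one (X := X) ⊤) x trivial)
  let res : R →+* X.residueField x := (X.residue x).hom
  have hres : Function.Surjective res := IsLocalRing.residue_surjective
  have h1 := finrank_residue_eq_one (k := k) hx
  haveI : Module.Finite k (X.residueField x) := Module.finite_of_finrank_eq_succ h1
  have hsurjk : Function.Surjective (algebraMap k (X.residueField x)) :=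
    (LinearMap.injective_iff_surjective_of_finrank_eq_finrank ((Module.finrank_self k).trans h1.symm)
      (f := (Algebra.linearMap k (X.residueField x)))).1 (algebraMap k (X.residueField x)).injective
  let co : (M : X.Modules) → (M ⟶ O) → M.presheaf.stalk x → X.residueField x :=
    fun M q v => res (τ.symm (H06Mod.stalkLin q x v))
  have co_add : ∀ {M : X.Modules} (q : M ⟶ O) (v w : M.presheaf.stalk x), co M q (v + w) = co M q v + co M q w :=
    fun q v w => by simp only [co, map_add]
  have co_smul : ∀ {M : X.Modules} (q : M ⟶ O) (r : R) (v : M.presheaf.stalk x),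
      co M q (r • v) = res r * co M q v := fun q r v => by simp only [co, map_smul, smul_eq_mul, map_mul]
  have co_const : ∀ {M : X.Modules} (q : M ⟶ O) (c : k) (v : M.presheaf.stalk x),
      co M (q ≫ constHom c) v = algebraMap k (X.residueField x) c * co M q v := by
    intro M q c v
    have hc : ∀ w : O.presheaf.stalk x, H06Mod.stalkLin (constHom (X := X) c) x w =
        (H25Par.constStalk (k := k) x c) • w := by
      intro w
      obtain ⟨U, hU, r, rfl⟩ := O.presheaf.exists_germ_eq w
      rw [H06Mod.stalkLin_germ]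
      have e : (H25Par.constStalk (k := k) x c : R) = X.presheaf.germ U x hU
          (X.presheaf.map (homOfLE (le_top : U ≤ ⊤)).op (H10Coh.globA (A := k) (X := X) c)) :=
        (X.presheaf.germ_res_apply (homOfLE (le_top : U ≤ ⊤)) x hU _).symm
      rw [e, ← H06Mod.germ_smul O U hU]
      refine congrArg (O.presheaf.germ U x hU) ?_
      exact (constHom_app c U r).trans (mul_comm (show Γ(X, U) from r) _)
    show res (τ.symm (H06Mod.stalkLin (q ≫ constHom c) x v)) = _
    rw [H29RR.stalkLin_comp, hc, map_smul, smul_eq_mul, map_mul]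
    rfl
  have co_comp : ∀ {M M' : X.Modules} (f : M ⟶ M') (q : M' ⟶ O) (v : M.presheaf.stalk x),
      co M (f ≫ q) v = co M' q (H06Mod.stalkLin f x v) := fun f q v => by
    simp only [co, H29RR.stalkLin_comp]
  have co_sum : ∀ {M : X.Modules} (q : Fin s → (M ⟶ O)) (v : M.presheaf.stalk x),
      co M (∑ i, q i) v = ∑ i, co M (q i) v := fun q v => by
    simp only [co, stalkLin_sum, map_sum]
  let F := FlatMod.freeMod X s
  -- residue vectors of the image
  let P : Submodule (X.residueField x) (Fin s → X.residueField x) :=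
    { carrier := Set.range fun v : N.presheaf.stalk x => fun i => co N (Φ ≫ proj i) v
      zero_mem' := ⟨0, funext fun i => by simp [co]⟩
      add_mem' := by
        rintro _ _ ⟨v, rfl⟩ ⟨w, rfl⟩
        exact ⟨v + w, funext fun i => co_add _ v w⟩
      smul_mem' := by
        rintro a _ ⟨v, rfl⟩
        obtain ⟨r, rfl⟩ := hres a
        exact ⟨r • v, funext fun i => co_smul _ r v⟩ }
  have hP : P = ⊤ := by
    by_contra hP
    obtain ⟨ℓ, hℓ, hker⟩ := Submodule.exists_le_ker_of_lt_top P (lt_top_iff_ne_top.mpr hP)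
    choose c hc using fun i : Fin s => hsurjk (ℓ (Pi.single i 1))
    have hℓsum : ∀ w : Fin s → X.residueField x, ℓ w = ∑ i, algebraMap k (X.residueField x) (c i) * w i := by
      intro w
      rw [show w = ∑ i, w i • (Pi.single i (1 : X.residueField x) : Fin s → X.residueField x) from
        (pi_eq_sum_univ' w), map_sum]
      refine Finset.sum_congr rfl fun i _ => ?_
      rw [map_smul, smul_eq_mul, hc, mul_comm]
      congr 1
      simp [Finset.sum_apply, Pi.single_apply]
    have hc0 : c ≠ 0 := fun h => hℓ (LinearMap.ext fun w => by simp [hℓsum, h])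
    let q := ∑ i, Φ ≫ proj i ≫ constHom (X := X) (c i)
    haveI : Epi q := hepi c (hmin c hc0)
    obtain ⟨v, hv⟩ := H06Mod.surjective_stalk_of_epi q x one
    have e1 : co N q v = 1 := by
      show res (τ.symm (H06Mod.stalkLin q x v)) = 1
      have hv' : H06Mod.stalkLin q x v = one := hv
      erw [hv']
      rw [show τ.symm one = 1 from τ.injective (by
        rw [LinearEquiv.apply_symm_apply]; exact (one_smul R one).symm), map_one]
    have e2 : co N q v = ℓ (fun i => co N (Φ ≫ proj i) v) := by
      rw [hℓsum, co_sum]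
      refine Finset.sum_congr rfl fun i _ => ?_
      rw [← Category.assoc, co_const]
    rw [LinearMap.mem_ker.mp (hker ⟨v, rfl⟩), e1] at e2
    exact one_ne_zero e2
  -- Nakayama
  let e : Fin s → F.presheaf.stalk x := fun i =>
    H06Mod.stalkLin (Sigma.ι (fun _ : Fin s => O) i) x one
  have hdec : ∀ w : F.presheaf.stalk x, w = ∑ i, τ.symm (H06Mod.stalkLin (proj i) x w) • e i := by
    intro w
    have h : H06Mod.stalkLin (𝟙 F) x w = w := by
      obtain ⟨U, hU, t, rfl⟩ := F.presheaf.exists_germ_eq w
      rw [H06Mod.stalkLin_germ]; rfl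
    conv_lhs => rw [← h, show (𝟙 F) = _ from (total (X := X) s).symm, stalkLin_sum]
    refine Finset.sum_congr rfl fun i _ => ?_
    rw [H29RR.stalkLin_comp, ← map_smul]
    congr 1
    exact (τ.apply_symm_apply _).symm
  have hfg : (⊤ : Submodule R (F.presheaf.stalk x)).FG := by
    refine ⟨Finset.univ.image e, top_le_iff.mp fun w _ => ?_⟩
    rw [hdec w]
    exact Submodule.sum_mem _ fun i _ => Submodule.smul_mem _ _ (Submodule.subset_span (by simp))
  have hT : (⊤ : Submodule R (F.presheaf.stalk x)) ≤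
      LinearMap.range (H06Mod.stalkLin Φ x) ⊔ IsLocalRing.maximalIdeal R • ⊤ := by
    intro w _
    have hw : (fun i => res (τ.symm (H06Mod.stalkLin (proj i) x w))) ∈ P := hP ▸ Submodule.mem_top
    obtain ⟨v, hv⟩ := hw
    have hdiff : w - H06Mod.stalkLin Φ x v ∈ IsLocalRing.maximalIdeal R • (⊤ : Submodule R (F.presheaf.stalk x)) := by
      rw [hdec (w - H06Mod.stalkLin Φ x v)]
      refine Submodule.sum_mem _ fun i _ => Submodule.smul_mem_smul ?_ Submodule.mem_top
      rw [← IsLocalRing.residue_eq_zero_iff]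
      show res _ = 0
      rw [map_sub, map_sub, map_sub, sub_eq_zero, ← H29RR.stalkLin_comp]
      exact (congrFun hv i).symm
    rw [← add_sub_cancel (H06Mod.stalkLin Φ x v) w]
    exact add_mem (Submodule.mem_sup_left ⟨v, rfl⟩) (Submodule.mem_sup_right hdiff)
  have := Submodule.le_of_le_smul_of_le_jacobson_bot hfg (IsLocalRing.maximalIdeal_le_jacobson ⊥) hT
  exact LinearMap.range_eq_top.mp (top_le_iff.mp this)

variable (k) in
include k in
/-- A bundle inside a free module without sections maps to the structure module, neither trivially nor surjectively. -/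
theorem exists_quotient {N : X.Modules} (hN : Coh.IsCoh N) (hne : ¬ IsZero N) {m : ℕ}
    (ι : N ⟶ FlatMod.freeMod X m) [Mono ι] (h0 : ∀ g : Γ(N, ⊤), g = 0) :
    ∃ q : N ⟶ Coh.structureModule X, q ≠ 0 ∧ ¬ Epi q := by
  classical
  by_contra hq
  push Not at hq
  have hex : ∃ s : ℕ, ∃ Φ : N ⟶ FlatMod.freeMod X s, Mono Φ := ⟨m, ι, inferInstance⟩
  obtain ⟨s, ⟨Φ, hΦ⟩, hsmin⟩ : ∃ s, (∃ Φ : N ⟶ FlatMod.freeMod X s, Mono Φ) ∧
      ∀ s' < s, ¬ ∃ Φ : N ⟶ FlatMod.freeMod X s', Mono Φ :=
    ⟨Nat.find hex, Nat.find_spec hex, fun s' h => Nat.find_min hex h⟩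
  have hmin : ∀ c : Fin s → k, c ≠ 0 → (∑ i, Φ ≫ proj i ≫ constHom (c i)) ≠ 0 := by
    intro c hc hzero
    obtain ⟨j, hj⟩ := Function.ne_iff.mp hc
    obtain ⟨s', hs'⟩ : ∃ s', s = s' + 1 := ⟨s - 1, by have := j.pos; omega⟩
    let ε : Fin s' → Fin s := fun i => Fin.cast hs'.symm (Fin.succAbove (Fin.cast hs' j) i)
    let Ψ : N ⟶ FlatMod.freeMod X s' :=
      ∑ i, Φ ≫ proj (ε i) ≫ Sigma.ι (fun _ : Fin s' => Coh.structureModule X) i
    have : Mono Ψ := by
      refine Preadditive.mono_of_cancel_zero Ψ fun {G} g hg => ?_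
      have hcoord : ∀ l, l ≠ j → g ≫ Φ ≫ proj l = 0 := by
        intro l hl
        obtain ⟨i, hi⟩ := Fin.exists_succAbove_eq (x := Fin.cast hs' l) (y := Fin.cast hs' j)
          (fun h => hl (Fin.cast_injective hs' h))
        have hε : ε i = l := by simp [ε, hi]
        have := congrArg (· ≫ proj i) hg
        simp only [Ψ, Category.assoc, Preadditive.comp_sum, Preadditive.sum_comp, zero_comp, ι_proj] at this
        rw [Finset.sum_eq_single i (fun b _ hb => by simp [hb]) (by simp), hε] at this
        simpa using this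
      have hall : g ≫ Φ = 0 := by
        rw [← Category.comp_id (g ≫ Φ), ← total, Preadditive.comp_sum]
        refine Finset.sum_eq_zero fun l _ => ?_
        rcases eq_or_ne l j with rfl | hl
        · have h := congrArg (g ≫ ·) hzero
          simp only [Preadditive.comp_sum, comp_zero] at h
          rw [Finset.sum_eq_single l (fun b _ hb => by
            rw [← Category.assoc Φ, ← Category.assoc g, hcoord b hb, zero_comp]) (by simp)] at h
          haveI := isIso_constHom (X := X) hj
          have h' : g ≫ Φ ≫ proj l = 0 := by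
            rw [← cancel_mono (constHom (X := X) (c l)), zero_comp]
            simpa using h
          rw [← Category.assoc, Category.assoc g, h', zero_comp]
        · rw [← Category.assoc, Category.assoc g, hcoord l hl, zero_comp]
      exact (cancel_mono Φ).mp (hall.trans zero_comp.symm)
    exact hsmin s' (by omega) ⟨Ψ, this⟩
  haveI : Mono Φ := hΦ
  haveI : Epi Φ := epi_of_combinations hN Φ hmin fun c h => hq _ h
  haveI : IsIso Φ := isIso_of_mono_of_epi Φ
  rcases Nat.eq_zero_or_pos s with h | h
  · refine hne ((IsZero.iff_id_eq_zero N).mpr ((cancel_mono Φ).mp ?_))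
    haveI : IsEmpty (Fin s) := by rw [h]; infer_instance
    rw [zero_comp, Category.id_comp, ← Category.comp_id Φ, ← total]
    simp
  · let i₀ : Fin s := ⟨0, h⟩
    let φ : Coh.structureModule X ⟶ N := Sigma.ι (fun _ : Fin s => Coh.structureModule X) i₀ ≫ inv Φ
    have hid : φ ≫ Φ ≫ proj i₀ = 𝟙 _ := by
      simp [φ, ι_proj]
    have hφ : φ.app ⊤ (H11Ample.one ⊤) = 0 := h0 _
    have h01 := congr($(congrArg (fun f => Scheme.Modules.Hom.app f ⊤) hid) (H11Ample.one ⊤))
    change (Φ ≫ proj i₀).app ⊤ (φ.app ⊤ (H11Ample.one ⊤)) = H11Ample.one ⊤ at h01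
    rw [hφ, map_zero] at h01
    obtain ⟨x₀⟩ : Nonempty X := by
      by_contra hX
      exact hne (H25Par.isZero_of_stalks _ fun y => absurd ⟨y⟩ hX)
    have e := congrArg (X.presheaf.germ ⊤ x₀ trivial) (show (0 : Γ(X, ⊤)) = 1 from h01)
    rw [map_zero, map_one] at e
    exact zero_ne_one e

/-- The filtration. -/
theorem exists_filtration [IsIntegral X] (hdim : topologicalKrullDim X = 1)
    (hreg : ∀ x : X, IsRegularLocalRing (X.presheaf.stalk x)) {m : ℕ} :
    ∀ (r : ℕ) (N : X.Modules), FlatMod.IsFinLocFreeOfRank r N → ∀ (ι : N ⟶ FlatMod.freeMod X m), Mono ι →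
      (∀ g : Γ(N, ⊤), g = 0) →
      ∃ (M : Fin (r + 1) → X.Modules) (f : (j : Fin r) → (M j.succ ⟶ M j.castSucc)),
        Nonempty (M 0 ≅ N) ∧ IsZero (M (Fin.last r)) ∧
          ∀ j : Fin r, Mono (f j) ∧ PicF.IsInvertible (cokernel (f j)) ∧ Curv2.deg k X (cokernel (f j)) 1 < 0 := by
  haveI := isNoetherian_of_proper (k := k) (X := X)
  haveI : Smooth (X ↘ Spec (CommRingCat.of k)) := smooth_of_regular k X hreg
  intro r
  induction r with
  | zero =>
    intro N hN ι _ _
    exact ⟨fun _ => N, fun j => j.elim0, ⟨Iso.refl _⟩, isZero_of_rank_zero hN, fun j => j.elim0⟩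
  | succ r ih =>
    intro N hN ι hι h0
    have hne : ¬ IsZero N := not_isZero_of_rank (k := k) hN r.succ_pos
    obtain ⟨q, hq0, hqe⟩ := exists_quotient k (isCoh_of_rank hN) hne ι h0
    have hO := rank_one_of_isInvertible (H11Ample.isInvertible_structureModule (X := X))
    obtain ⟨a, r', hK, hG, har, hr1, hr0, -, -⟩ := exists_image_data (k := k) hdim.le hN hO q
    obtain rfl : r' = 1 := le_antisymm hr1 (hr0 hq0)
    obtain rfl : a = r := by omega
    have hL : PicF.IsInvertible (Abelian.image q) := H17.FLI.isInvertible_of_rank_one hG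
    have hι0 : Abelian.image.ι q ≠ 0 := fun h => hq0 (by rw [← Abelian.image.fac q, h, comp_zero])
    obtain ⟨hle, heq⟩ := deg_le_of_ne_zero (k := k) hdim.le hL (H11Ample.isInvertible_structureModule (X := X)) hι0
    rw [deg_structureModule] at hle heq
    have hneg : Curv2.deg k X (Abelian.image q) 1 < 0 := lt_of_le_of_ne hle fun h => by
      haveI := heq h
      exact hqe (by rw [← Abelian.image.fac q]; infer_instance)
    haveI := hι
    have h0' : ∀ g : Γ(kernel q, ⊤), g = 0 := fun g =>
      H10Coh.injective_app_of_mono' (kernel.ι q) ⊤ ((h0 _).trans (map_zero _).symm)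
    obtain ⟨M, f, ⟨e⟩, hlast, hf⟩ := ih (kernel q) hK (kernel.ι q ≫ ι) (mono_comp _ _) h0'
    let M' : Fin (a + 1 + 1) → X.Modules := Fin.cons N M
    let f0 : M' (0 : Fin (a + 1)).succ ⟶ M' (0 : Fin (a + 1)).castSucc := e.hom ≫ kernel.ι q
    let f' : (j : Fin (a + 1)) → (M' j.succ ⟶ M' j.castSucc) :=
      Fin.cases f0 fun i => (f i : M' i.succ.succ ⟶ M' i.succ.castSucc)
    refine ⟨M', f', ⟨Iso.refl _⟩, hlast, Fin.cases ?_ fun i => ?_⟩
    · show Mono (e.hom ≫ kernel.ι q) ∧ PicF.IsInvertible (cokernel (e.hom ≫ kernel.ι q)) ∧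
        Curv2.deg k X (cokernel (e.hom ≫ kernel.ι q)) 1 < 0
      let c : cokernel (e.hom ≫ kernel.ι q) ≅ Abelian.image q :=
        cokernelEpiComp e.hom (kernel.ι q) ≪≫ Abelian.coimageIsoImage q
      exact ⟨mono_comp _ _, H11Tilde.isInvertible_of_iso c.symm hL, by rw [deg_congr c]; exact hneg⟩
    · exact hf i

end Groth.Agent.H06NegFilt
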